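import Groth.Agent.KRLib.Seq
import Groth.Agent.GrModLib.StdField
import Mathlib.RingTheory.MvPolynomial.Localization

/-!
# The equations of a chart of the blow-up in a Koszul exact sequence
-/

set_option autoImplicit false
set_option linter.style.haveILetI false

universe u

open MvPolynomial

namespace BlowPerfLib

open KoszDetLib KRLib

noncomputable section

variable {A : Type u} [CommRing A] {n : ℕ} (f : Fin (n + 1) → A)

/-- The equations `f 0 * T j - f (j + 1)` of the first chart. -/
def g : Fin n → MvPolynomial (Fin n) A := fun j => C (f 0) * X j - C (f j.succ)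

/-- The equations preceded by `f 0` are Koszul exact. -/
theorem isExactK_cons (hf : IsExactK f) : IsExactK (Fin.cons (C (f 0)) (g f) : Fin (n + 1) → MvPolynomial (Fin n) A) := by
  classical
  have h0 : IsExactK (fun i => (C (f i) : MvPolynomial (Fin n) A)) :=
    isExactK_of_flat (R := MvPolynomial (Fin n) A) hf
  let d : Matrix (Fin (n + 1)) (Fin (n + 1)) (MvPolynomial (Fin n) A) := Fin.cons (Pi.single 0 1)
    fun j : Fin n => Pi.single (0 : Fin (n + 1)) (X j : MvPolynomial (Fin n) A) - Pi.single j.succ 1
  have hd : ∀ (v : Fin (n + 1) → MvPolynomial (Fin n) A) i,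
      ∑ l, d i l * v l = (Fin.cons (v 0) (fun j => X j * v 0 - v j.succ) : Fin (n + 1) → _) i := by
    intro v i
    induction i using Fin.cases with
    | zero => simp [d, Pi.single_apply]
    | succ j => simp [d, Pi.single_apply, sub_mul, Finset.sum_sub_distrib]
  refine isExactK_of_matrix h0 d d (fun i => ?_) (fun i => ?_) ?_
  · rw [hd]
    induction i using Fin.cases with
    | zero => simp
    | succ j => simp [g]; ring
  · rw [hd]
    induction i using Fin.cases with
    | zero => simp
    | succ j => simp [g]; ring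
  · ext1 i k
    rw [Matrix.mul_apply, hd]
    induction i using Fin.cases with
    | zero => simp [d, Matrix.one_apply, Pi.single_apply, eq_comm]
    | succ j => simp [d, Matrix.one_apply, Pi.single_apply, eq_comm]

theorem mem_range_of_smul (hf : IsExactK f) (x : Kz (MvPolynomial (Fin n) A) n) (hx : D (g f) x = 0)
    (h : (C (f 0) : MvPolynomial (Fin n) A) • x ∈ LinearMap.range (D (g f))) :
    x ∈ LinearMap.range (D (g f)) := by
  obtain ⟨w, hw⟩ := h
  let w' := w - eps w • one n
  have hw' : D (g f) w' = (C (f 0) : MvPolynomial (Fin n) A) • x := by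
    rw [map_sub, map_smul, D_one, smul_zero, sub_zero, hw]
  let F : Fin (n + 1) → MvPolynomial (Fin n) A := Fin.cons (C (f 0)) (g f)
  have hF0 : F 0 = C (f 0) := Fin.cons_zero _ _
  have hFt : Fin.tail F = g f := Fin.tail_cons _ _
  have hz : D F (join (-w', x)) = 0 := join_ext
    (by rw [pa_D, pa_join, pb_join, hFt, hF0, map_neg, hw', neg_add_cancel, map_zero])
    (by rw [pb_D, pb_join, hFt, hx, neg_zero, map_zero])
  have he : eps (join (-w', x)) = 0 := by
    show eps (-w') = 0
    rw [map_neg, map_sub, map_smul, eps_one, smul_eq_mul, mul_one, sub_self, neg_zero]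
  obtain ⟨z, hz'⟩ := isExactK_cons f hf (join (-w', x)) hz (by rw [he]; exact Ideal.zero_mem _)
  have := congrArg pb hz'
  rw [pb_D, pb_join, hFt] at this
  exact ⟨-pb z, by rw [map_neg, this]⟩

theorem mem_range_of_pow_smul (hf : IsExactK f) : ∀ (k : ℕ) (x : Kz (MvPolynomial (Fin n) A) n), D (g f) x = 0 →
    (C (f 0) : MvPolynomial (Fin n) A) ^ k • x ∈ LinearMap.range (D (g f)) → x ∈ LinearMap.range (D (g f))
  | 0, x, _, h => by simpa using h
  | k + 1, x, hx, h => by
    refine mem_range_of_smul f hf x hx (mem_range_of_pow_smul hf k _ (by rw [map_smul, hx, smul_zero]) ?_)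
    rwa [smul_smul, ← pow_succ]

variable (B : Type u) [CommRing B] [Algebra A B] [IsLocalization.Away (f 0) B]

/-- The coordinates of the point over the localisation. -/
def pt : Fin n → B := fun j => IsLocalization.Away.invSelf (f 0) * algebraMap A B (f j.succ)

theorem map_g (j : Fin n) : MvPolynomial.map (algebraMap A B) (g f j) =
    C (algebraMap A B (f 0)) * (X j - C (pt f B j)) := by
  rw [g, map_sub, map_mul, map_C, map_X, map_C, mul_sub, ← C_mul (R := B), pt, ← mul_assoc,
    IsLocalization.Away.mul_invSelf, one_mul]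

theorem isExactK_map : IsExactK (fun j => MvPolynomial.map (algebraMap A B) (g f j)) := by
  classical
  let τ : MvPolynomial (Fin n) B ≃ₐ[B] MvPolynomial (Fin n) B :=
    AlgEquiv.ofAlgHom (aeval fun j => X j - C (pt f B j)) (aeval fun j => X j + C (pt f B j))
      (MvPolynomial.algHom_ext fun j => by simp)
      (MvPolynomial.algHom_ext fun j => by simp)
  have hX : IsExactK (X : Fin n → MvPolynomial (Fin n) B) :=
    isExactK_cast (isExactK_of_isWeaklyRegular _ (GrModLib.isWeaklyRegular_X B n)) List.length_ofFn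
      fun i => by simp only [List.get_eq_getElem, List.getElem_ofFn]; rfl
  have h1 : IsExactK (fun j => X j - C (pt f B j)) := by
    have := isExactK_of_ringEquiv τ.toRingEquiv hX
    simpa [τ] using this
  have hu : IsUnit (C (algebraMap A B (f 0)) : MvPolynomial (Fin n) B) :=
    (IsLocalization.Away.algebraMap_isUnit (f 0)).map C
  refine isExactK_of_matrix h1 (Matrix.diagonal fun _ => (↑hu.unit⁻¹ : MvPolynomial (Fin n) B))
    (Matrix.diagonal fun _ => C (algebraMap A B (f 0))) (fun i => ?_) (fun i => ?_) ?_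
  · simp [Matrix.diagonal_apply, map_g, ← mul_assoc, IsUnit.val_inv_mul hu]
  · simp [Matrix.diagonal_apply, map_g]
  · rw [Matrix.diagonal_mul_diagonal, IsUnit.mul_val_inv hu, Matrix.diagonal_one]

attribute [local instance] MvPolynomial.algebraMvPolynomial

theorem isExactK_g (hf : IsExactK f) : IsExactK (g f) := by
  intro x hx he
  let B := Localization.Away (f 0)
  let R := MvPolynomial (Fin n) B
  let P := MvPolynomial (Fin n) A
  let M : Submonoid P := (Submonoid.powers (f 0)).map (C : A →+* P)
  haveI : IsLocalization M R := MvPolynomial.isLocalization (Submonoid.powers (f 0)) B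
  let σ : P →+* R := MvPolynomial.map (algebraMap A B)
  have hσ : algebraMap P R = σ := rfl
  obtain ⟨w, hw⟩ := isExactK_map f B (mapK σ x) (by rw [← mapK_D σ (g f) x, hx, map_zero]) (by
    have h := Ideal.mem_map_of_mem σ he
    rw [Ideal.map_span, ← Set.range_comp] at h
    exact h)
  obtain ⟨⟨b, hb⟩, hint⟩ := IsLocalization.exist_integer_multiples_of_finite M w
  choose w' hw' using hint
  have hb' : ∀ s, σ (w' s) = σ b * w s := fun s => (hw' s).trans (Algebra.smul_def b (w s))
  have h2 : mapK σ (b • x - D (g f) w') = 0 := by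
    rw [map_sub, mapK_smul, mapK_D, show mapK σ w' = σ b • w from funext hb', map_smul, hw, sub_self]
  have h3 : ∀ s, ∃ c : M, (c : P) * (b • x - D (g f) w') s = 0 := fun s =>
    (IsLocalization.map_eq_zero_iff M R _).mp (congrFun h2 s)
  choose c hc using h3
  haveI := Fintype.ofFinite (Idx n)
  let d : M := ∏ s, c s
  have h4 : ((d : P) * b) • x ∈ LinearMap.range (D (g f)) := by
    refine ⟨(d : P) • w', ?_⟩
    funext s
    obtain ⟨e, he'⟩ := Finset.dvd_prod_of_mem c (Finset.mem_univ s)
    have : (d : P) * (b • x - D (g f) w') s = 0 := by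
      rw [show (d : P) = (c s : P) * (e : P) from congrArg Subtype.val he', mul_right_comm, hc, zero_mul]
    rw [Pi.sub_apply, mul_sub, sub_eq_zero, Pi.smul_apply, smul_eq_mul] at this
    rw [map_smul, Pi.smul_apply, Pi.smul_apply, smul_eq_mul, smul_eq_mul, mul_assoc]
    exact this.symm
  obtain ⟨a₀, ⟨k, rfl⟩, ha₀⟩ := mul_mem d.2 hb
  refine mem_range_of_pow_smul f hf k x hx ?_
  rw [← map_pow, ha₀]
  exact h4

theorem sub_C_eval_mem (t : Fin n → B) (p : MvPolynomial (Fin n) B) :
    p - C (eval t p) ∈ Ideal.span (Set.range fun j => X j - C (t j)) := by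
  induction p using MvPolynomial.induction_on with
  | C b => simp
  | add p q hp hq =>
    have : p + q - C (eval t (p + q)) = (p - C (eval t p)) + (q - C (eval t q)) := by
      rw [map_add, map_add]; ring
    exact this ▸ add_mem hp hq
  | mul_X p j hp =>
    have : p * X j - C (eval t (p * X j)) = (p - C (eval t p)) * X j + C (eval t p) * (X j - C (t j)) := by
      rw [map_mul, eval_X, map_mul]; ring
    exact this ▸ add_mem (Ideal.mul_mem_right _ _ hp)
      (Ideal.mul_mem_left _ _ (Ideal.subset_span ⟨j, rfl⟩))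

theorem mem_span_of_pow_mul (hf : IsExactK f) (k : ℕ) (y : MvPolynomial (Fin n) A)
    (h : C (f 0) ^ k * y ∈ Ideal.span (Set.range (g f))) : y ∈ Ideal.span (Set.range (g f)) := by
  have hx : D (g f) (y • one n) = 0 := by rw [map_smul, D_one, smul_zero]
  obtain ⟨w, hw⟩ := mem_range_of_pow_smul f hf k (y • one n) hx (by
    rw [smul_smul]
    exact mem_range_proj_zero _ _ h)
  have := congrArg eps hw
  rw [map_smul, eps_one, smul_eq_mul, mul_one] at this
  exact this ▸ eps_D_mem _ w

theorem mem_span_of_eval_eq_zero (hf : IsExactK f) (h : MvPolynomial (Fin n) A)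
    (h0 : eval₂ (algebraMap A B) (pt f B) h = 0) : h ∈ Ideal.span (Set.range (g f)) := by
  let P := MvPolynomial (Fin n) A
  let R := MvPolynomial (Fin n) B
  let M : Submonoid P := (Submonoid.powers (f 0)).map (C : A →+* P)
  haveI : IsLocalization M R := MvPolynomial.isLocalization (Submonoid.powers (f 0)) B
  let σ : P →+* R := MvPolynomial.map (algebraMap A B)
  have hm : σ h ∈ (Ideal.span (Set.range (g f))).map (algebraMap P R) := by
    have h1 := sub_C_eval_mem B (pt f B) (σ h)
    rw [eval_map, h0, map_zero, sub_zero] at h1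
    have hu : IsUnit (C (algebraMap A B (f 0)) : R) := (IsLocalization.Away.algebraMap_isUnit (f 0)).map C
    refine (Ideal.span_le.mpr ?_) h1
    rintro _ ⟨j, rfl⟩
    rw [SetLike.mem_coe, ← Ideal.unit_mul_mem_iff_mem _ hu, ← map_g]
    exact Ideal.mem_map_of_mem (algebraMap P R) (Ideal.subset_span ⟨j, rfl⟩)
  obtain ⟨⟨⟨i, hi⟩, ⟨m, hm'⟩⟩, him⟩ := (IsLocalization.mem_map_algebraMap_iff M R).mp hm
  have : algebraMap P R (h * m - i) = 0 := by rw [map_sub, map_mul, sub_eq_zero]; exact him
  obtain ⟨⟨c, hc⟩, hci⟩ := (IsLocalization.map_eq_zero_iff M R _).mp this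
  obtain ⟨_, ⟨k, rfl⟩, hk⟩ := mul_mem hc hm'
  refine mem_span_of_pow_mul f hf k h ?_
  rw [← map_pow, hk]
  have h2 : c * m * h = c * i := by
    have := hci; rw [mul_sub, sub_eq_zero] at this; rw [← this]; ring
  rw [h2]
  exact Ideal.mul_mem_left _ _ hi

end

end BlowPerfLib
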