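import Groth.Agent.BlowPerfLib.Koszul
import Groth.Agent.EffCartLib.Basic
import Groth.Agent.BlowUpLib.RegSmooth
import Groth.Agent.PerfModLib.Mor

/-!
# The blow-up in a regularly immersed centre is a perfect morphism
-/

set_option autoImplicit false
set_option linter.style.haveILetI false

universe u

open CategoryTheory CategoryTheory.Limits AlgebraicGeometry TopologicalSpace
attribute [local instance] HasDerivedCategory.standard

namespace BlowPerfLib

open KoszDetLib MvPolynomial

/-- The first chart is perfect over the base. -/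
theorem isPerfectHom_first {A : Type u} [CommRing A] {n : ℕ} (f : Fin (n + 1) → A) (hf : IsExactK f) :
    MoreMor.IsPerfectHom A (BlowUp.affineAlgebra A (Ideal.span (Set.range f)) (f 0)) := by
  let C' := BlowUp.affineAlgebra A (Ideal.span (Set.range f)) (f 0)
  let φ : MvPolynomial (Fin n) A →ₐ[A] C' := aeval fun j => BlowUpLib.chartVar f 0 j.succ
  have hφ : Function.Surjective φ := fun y => by
    obtain ⟨p, rfl⟩ := BlowUpLib.aeval_chartVar_surjective f 0 y
    refine ⟨rename (fun j : {j : Fin (n + 1) // j ≠ 0} => j.1.pred j.2) p, ?_⟩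
    show aeval _ (rename _ p) = _
    rw [aeval_rename]
    congr 1
    exact congrArg (fun v => aeval (R := A) v) (funext fun j =>
      congrArg (BlowUpLib.chartVar f 0) (Fin.succ_pred j.1 j.2))
  have hker : RingHom.ker φ.toRingHom = Ideal.span (Set.range (g f)) := by
    refine le_antisymm (fun h hh => ?_) (Ideal.span_le.mpr ?_)
    · refine mem_span_of_eval_eq_zero f (Localization.Away (f 0)) hf h ?_
      have h2 : C'.val (φ h) = 0 := by
        rw [show φ h = 0 from hh, map_zero]
      rw [← AlgHom.comp_apply, MvPolynomial.comp_aeval] at h2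
      have e : (fun j : Fin n => C'.val (BlowUpLib.chartVar f 0 j.succ)) = pt f (Localization.Away (f 0)) := by
        funext j
        apply (IsLocalization.Away.algebraMap_isUnit (S := Localization.Away (f 0)) (f 0)).mul_right_cancel
        refine Eq.trans (IsLocalization.mk'_spec (Localization.Away (f 0)) (f j.succ) ⟨f 0, Submonoid.mem_powers (f 0)⟩) ?_
        rw [pt, mul_right_comm, mul_comm (IsLocalization.Away.invSelf (f 0)), IsLocalization.Away.mul_invSelf, one_mul]
      rw [e] at h2
      exact h2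
    · rintro _ ⟨j, rfl⟩
      show φ (g f j) = 0
      rw [g, map_sub, map_mul, aeval_C, aeval_C, aeval_X, mul_comm, BlowUpLib.chartVar_mul, sub_self]
  refine PerfModLib.isPerfectHom_of_perfect φ hφ ?_
  letI := φ.toRingHom.toAlgebra
  exact PerfModLib.perfect_of_equiv
    (((Ideal.quotientEquivAlgOfEq (MvPolynomial (Fin n) A) hker.symm)).trans
      (Ideal.quotientKerAlgEquivOfSurjective (f := Algebra.ofId (MvPolynomial (Fin n) A) C') hφ)).toLinearEquiv
    (PerfModLib.perfect_quotient_of_exactK (g f) (isExactK_g f hf))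

theorem isPerfectHom_chart {A : Type u} [CommRing A] {r : ℕ} (f : Fin r → A) (hf : IsExactK f) (j : Fin r) :
    MoreMor.IsPerfectHom A (BlowUp.affineAlgebra A (Ideal.span (Set.range f)) (f j)) := by
  cases r with
  | zero => exact j.elim0
  | succ n =>
    have key : ∀ (J : Ideal A) (a : A), J = Ideal.span (Set.range (f ∘ Equiv.swap 0 j)) →
        a = (f ∘ Equiv.swap 0 j) 0 → MoreMor.IsPerfectHom A (BlowUp.affineAlgebra A J a) := by
      rintro J a rfl rfl
      exact isPerfectHom_first _ (KRLib.isExactK_comp_equiv hf (Equiv.swap 0 j))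
    exact key _ _ (by rw [Set.range_comp, Equiv.range_eq_univ, Set.image_univ]) (by simp)

theorem isPerfectMor_blowUp {X X' Y : Scheme.{u}} (i : Y ⟶ X) (hi : Mor2.IsRegularClosedImmersion i)
    (b : X' ⟶ X) (hb : BlowUp.IsBlowUp b i.ker) : MoreMor.IsPerfectMor b := by
  obtain ⟨hcl, hloc⟩ := hi
  haveI : IsClosedImmersion i := hcl
  have hex : ∀ x : X', ∃ (T : Scheme.{u}) (c : T ⟶ X'), IsOpenImmersion c ∧ x ∈ Set.range c ∧
      MoreMor.IsPerfectMor (c ≫ b) := by
    intro x
    by_cases hx : b x ∈ i.ker.support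
    · obtain ⟨y, hy⟩ : b x ∈ Set.range i := by
        have := Scheme.Hom.support_ker i
        have h2 : b x ∈ closure (Set.range i) := by
          have h3 : (i.ker.support : Set X) = closure (Set.range i) := by rw [this]
          exact h3 ▸ hx
        rwa [i.isClosedEmbedding.isClosed_range.closure_eq] at h2
      obtain ⟨U, hU, hyU, rs, hrs, hk⟩ := hloc y
      let A := Γ(X, U)
      let f : Fin rs.length → A := rs.get
      have hf : IsExactK f := KRLib.isExactK_of_isWeaklyRegular rs hrs.toIsWeaklyRegular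
      let I : Ideal A := i.ker.ideal ⟨U, hU⟩
      have hIf : Ideal.span (Set.range f) = I := by
        show _ = i.ker.ideal ⟨U, hU⟩
        rw [hk, Ideal.ofList, Set.range_list_get]
      have hP : BlowUp.IsBlowUp (pullback.fst hU.fromSpec b) (BlowUpLib.specIdeal (A := A) I) :=
        BlowUpLib.comap_fromSpec i.ker ⟨U, hU⟩ ▸
          BlowUpLib.isBlowUp_of_isPullback (IsPullback.of_hasPullback hU.fromSpec b).flip hb
      obtain ⟨u₀, hu₀⟩ : b x ∈ Set.range hU.fromSpec := hU.range_fromSpec.symm ▸ hy ▸ hyU
      obtain ⟨z, -, hz⟩ := Scheme.Pullback.exists_preimage_pullback (f := hU.fromSpec) (g := b) u₀ x hu₀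
      obtain ⟨a, ⟨j, rfl⟩, c, _, ⟨q, hq⟩, hc⟩ :=
        BlowUpLib.exists_chart_spec_of_span I (Set.range f) hIf hP z
      refine ⟨_, c ≫ pullback.snd hU.fromSpec b, inferInstance, ⟨q, by rw [Scheme.Hom.comp_apply, hq, hz]⟩, ?_⟩
      have hperf : MoreMor.IsPerfectHom A (BlowUp.affineAlgebra A I (f j)) := hIf ▸ isPerfectHom_chart f hf j
      rw [Category.assoc, ← pullback.condition, reassoc_of% hc]
      refine PerfModLib.perfectMor_comp _ _ ?_ (PerfModLib.perfectMor_of_flat _)
      rw [PerfModLib.perfMor_iff, HasRingHomProperty.Spec_iff (P := PerfModLib.PerfMor)]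
      exact PerfModLib.perfHom_algebraMap.mpr hperf
    · let W : X.Opens := i.ker.support.compl
      haveI := EffCartLib.isIso_off_center i.ker b hb W le_rfl
      refine ⟨_, (b ⁻¹ᵁ W).ι, inferInstance, ⟨⟨x, hx⟩, rfl⟩, ?_⟩
      rw [← morphismRestrict_ι]
      exact PerfModLib.perfectMor_comp _ _ (PerfModLib.perfectMor_of_flat _) (PerfModLib.perfectMor_of_flat _)
  choose T c hc hx hperf using hex
  rw [PerfModLib.perfMor_iff]
  refine IsZariskiLocalAtSource.of_iSup_eq_top (P := PerfModLib.PerfMor)
    (fun x => (c x).opensRange) (top_le_iff.mp fun x _ => Opens.mem_iSup.mpr ⟨x, hx x⟩) fun x => ?_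
  rw [← Scheme.Hom.isoOpensRange_inv_comp (c x), Category.assoc,
    MorphismProperty.cancel_left_of_respectsIso PerfModLib.PerfMor]
  exact (PerfModLib.perfMor_iff _).mp (hperf x)

end BlowPerfLib
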